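import Cfsg.Agent.H989.Fx.OmE
import Cfsg.Agent.H847.IF.Abs

/-!
# S5719, orthogonal groups, `q` odd: ambient tools (helper786)

* `abs_rel` : the counting lemma of helper847 for subgroups `L, Qs ≤ K` of one group;
* `Nd Q W`, `Fx Q W`; fixed vectors of `p`-groups in a subspace; hyperbolic pairs in a subspace.
-/

set_option autoImplicit false
set_option linter.unusedSectionVars false
set_option linter.unusedVariables false

namespace Cfsg.Agent.H786.IF

open Subgroup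

theorem abs_relP {G : Type*} [Group G] [Finite G] (K L Qs X : Subgroup G) (hQK : Qs ≤ K) (hLK : L ≤ K)
    (hQ : Odd (Nat.card Qs)) (hnorm : ∀ l ∈ L, ∀ u ∈ Qs, l * u * l⁻¹ ∈ Qs) (P : G → Prop)
    (hP2 : ∀ z ∈ K, P z → z * z = 1) (hPc : ∀ g ∈ K, ∀ z ∈ K, P z → P (g * z * g⁻¹)) (hX : ∀ z ∈ X, ¬ P z) (c : ℕ)
    (hc : ∀ Y : Subgroup G, (∀ z ∈ Y, ¬ P z) → c ≤ Y.relIndex L) :
    Nat.card Qs * c ≤ Nat.card (X ⊓ Qs : Subgroup G) * X.relIndex K := by
  have e1 : Nat.card (Qs.subgroupOf K) = Nat.card Qs := Nat.card_congr (Subgroup.subgroupOfEquivOfLe hQK).toEquiv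
  have h := Cfsg.Agent.H847.IF.abs_index (G := K) (L := L) (Subgroup.inclusion hLK) (Qs.subgroupOf K)
    (X.subgroupOf K) (by rw [e1]; exact hQ) (by
      intro l u hu
      rw [mem_subgroupOf] at hu ⊢
      exact hnorm l l.2 _ hu) {z : K | P (z : G)} (by
      intro z hz
      exact Subtype.ext (hP2 _ z.2 hz)) (by
      intro g z hz
      exact hPc _ g.2 _ z.2 hz) (by
      intro z hz hzX
      exact hX _ (mem_subgroupOf.1 hzX) hz) c (by
      intro Y hY
      have h1 := hc (Y.map L.subtype) (by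
        rintro _ ⟨y, hy, rfl⟩ hyZ
        exact hY y hy hyZ)
      have h2 : (Y.map L.subtype).subgroupOf L = Y := Subgroup.comap_map_eq_self_of_injective L.subtype_injective Y
      rwa [Subgroup.relIndex, h2] at h1)
  have e2 : Nat.card (X.subgroupOf K ⊓ Qs.subgroupOf K : Subgroup K) = Nat.card (X ⊓ Qs : Subgroup G) := by
    have h1 : (X.subgroupOf K ⊓ Qs.subgroupOf K : Subgroup K) = (X ⊓ Qs).subgroupOf K := (Subgroup.comap_inf X Qs K.subtype).symm
    rw [h1]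
    exact Nat.card_congr (Subgroup.subgroupOfEquivOfLe (inf_le_right.trans hQK)).toEquiv
  rw [e1, e2] at h
  exact h

theorem abs_rel {G : Type*} [Group G] [Finite G] (K L Qs X : Subgroup G) (hQK : Qs ≤ K) (hLK : L ≤ K)
    (hQ : Odd (Nat.card Qs)) (hnorm : ∀ l ∈ L, ∀ u ∈ Qs, l * u * l⁻¹ ∈ Qs) (Z : Set G) (hZ2 : ∀ z ∈ Z, z * z = 1)
    (hZc : ∀ g : G, ∀ z ∈ Z, g * z * g⁻¹ ∈ Z) (hX : ∀ z ∈ X, z ∉ Z) (c : ℕ)
    (hc : ∀ Y : Subgroup G, (∀ z ∈ Y, z ∉ Z) → c ≤ Y.relIndex L) :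
    Nat.card Qs * c ≤ Nat.card (X ⊓ Qs : Subgroup G) * X.relIndex K :=
  abs_relP K L Qs X hQK hLK hQ hnorm (fun z => z ∈ Z) (fun z _ hz => hZ2 z hz) (fun g _ z _ hz => hZc g z hz) hX c hc

end Cfsg.Agent.H786.IF

namespace Cfsg.Agent.H786.IF

open QuadraticMap Cfsg.Agent.LieClassical Cfsg.Agent.LieClassical.OrthCore Cfsg.Agent.LieClassical.OrthTrans
  Cfsg.Agent.AutOrth.SemiSim Cfsg.Agent.AutOrth.Gen Cfsg.Agent.H989.Gs.Gen Cfsg.Agent.H989.Fx
open Cfsg.Agent.UGT.U2.FOne.Orth (Four)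

variable {F V : Type*} [Field F] [AddCommGroup V] [Module F V] {Q : QuadraticForm F V}

/-- nondegenerate subspace -/
def Nd (Q : QuadraticForm F V) (W : Submodule F V) : Prop := ∀ x ∈ W, (∀ y ∈ W, polar Q x y = 0) → x = 0

/-- no fundamental involutions -/
def NF (Q : QuadraticForm F V) (X : Subgroup ↥(E Q)) : Prop := ∀ z ∈ X, ¬ Fund Q z

/-- the pointwise stabiliser of a subspace -/
def Fix (Q : QuadraticForm F V) (W : Submodule F V) : Subgroup ↥(E Q) where
  carrier := {g | ∀ w ∈ W, ap g w = w}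
  one_mem' := fun w _ => ap_one w
  mul_mem' := fun {a b} ha hb w hw => by rw [ap_mul, hb w hw, ha w hw]
  inv_mem' := fun {a} ha w hw => ap_inv_of (ha w hw)

theorem mem_Fix {W : Submodule F V} {g : ↥(E Q)} : g ∈ Fix Q W ↔ ∀ w ∈ W, ap g w = w := Iff.rfl

/-- the pointwise stabiliser of the orthogonal space -/
def FP (Q : QuadraticForm F V) (W : Submodule F V) : Subgroup ↥(E Q) where
  carrier := {g | ∀ v, (∀ w ∈ W, polar Q w v = 0) → ap g v = v}
  one_mem' := fun v _ => ap_one v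
  mul_mem' := fun {a b} ha hb v hv => by rw [ap_mul, hb v hv, ha v hv]
  inv_mem' := fun {a} ha v hv => ap_inv_of (ha v hv)

theorem mem_FP {W : Submodule F V} {g : ↥(E Q)} : g ∈ FP Q W ↔ ∀ v, (∀ w ∈ W, polar Q w v = 0) → ap g v = v := Iff.rfl

theorem FP_mono {W W' : Submodule F V} (h : W ≤ W') : FP Q W ≤ FP Q W' :=
  fun g hg v hv => hg v fun w hw => hv w (h hw)

theorem S_mem_FP {W : Submodule F V} {u w : V} (hu : u ∈ W) (hw : w ∈ W) (hu0 : Q u = 0) (huw : polar Q u w = 0) :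
    S Q u w ∈ FP Q W := fun v hv => S_fix hu0 huw (hv u hu) (hv w hw)

theorem finite_E [Finite F] [FiniteDimensional F V] : Finite ↥(E Q) := by
  have : Finite V := Module.finite_of_finite F
  have h1 : Finite (V ≃ₗ[F] V) := Finite.of_injective (fun g : V ≃ₗ[F] V => (g : V → V)) DFunLike.coe_injective
  infer_instance

/-- the restriction of the form -/
abbrev QR (Q : QuadraticForm F V) (W : Submodule F V) : QuadraticForm F W := Q.comp W.subtype

theorem polar_QR (W : Submodule F V) (x y : W) : polar (QR Q W) x y = polar Q (x : V) (y : V) := rfl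

theorem nondeg_QR {W : Submodule F V} (hW : Nd Q W) : Nondeg (QR Q W) := by
  intro x hx
  apply Subtype.ext
  exact hW x x.2 fun y hy => hx ⟨y, hy⟩

theorem exists_pair [Finite F] [FiniteDimensional F V] {W : Submodule F V} (hW : Nd Q W) (h3 : 3 ≤ Module.finrank F W)
    {w₀ : V} (hw : w₀ ∈ W) (hw0 : w₀ ≠ 0) : ∃ e ∈ W, ∃ f ∈ W, Hyp Q e f ∧ polar Q e w₀ ≠ 0 := by
  have hN := nondeg_QR hW
  obtain ⟨⟨x, hxW⟩, -, hx0, hx⟩ := OrthFinite.exists_sing_mem (Q := QR Q W) (⊤ : Submodule F W) (by rwa [finrank_top])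
  obtain ⟨y, hxy⟩ := exists_hyp hN hx hx0
  obtain ⟨⟨u, huW⟩, hu, hu1⟩ := exists_sing_polar_one hN hxy (v := ⟨w₀, hw⟩) (by
    intro h
    exact hw0 (congrArg Subtype.val h))
  have hu0 : (⟨u, huW⟩ : W) ≠ 0 := by
    rintro h
    rw [h, polar_zero_left] at hu1
    exact zero_ne_one hu1
  obtain ⟨⟨f, hfW⟩, hf⟩ := exists_hyp hN hu hu0
  refine ⟨u, huW, f, hfW, ⟨hf.left, hf.right, hf.pair⟩, ?_⟩
  have : polar Q u w₀ = 1 := hu1
  rw [this]
  exact one_ne_zero

/-- `p`-groups fix a nonzero vector -/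
theorem exists_fixed_vec [Finite F] [FiniteDimensional F V] {p : ℕ} [hp : Fact p.Prime] [CharP F p] {R : Subgroup ↥(E Q)} (hR : IsPGroup p R)
    {W : Submodule F V} (hW : W ≠ ⊥) (hinv : ∀ g ∈ R, ∀ w ∈ W, ap g w ∈ W) :
    ∃ w₀ ∈ W, w₀ ≠ 0 ∧ ∀ g ∈ R, ap g w₀ = w₀ := by
  have : Finite V := Module.finite_of_finite F
  let act : MulAction R W :=
    { smul := fun g w => ⟨ap (g : ↥(E Q)) w, hinv g g.2 w w.2⟩
      one_smul := fun w => rfl
      mul_smul := fun g h w => rfl }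
  have hdvd : p ∣ Nat.card W := by
    obtain ⟨w, hw, hw0⟩ := Submodule.exists_mem_ne_zero_of_ne_bot hW
    have h1 : addOrderOf (⟨w, hw⟩ : W) = p := by
      apply addOrderOf_eq_prime
      · apply Subtype.ext
        change p • w = 0
        rw [← Nat.cast_smul_eq_nsmul F, CharP.cast_eq_zero, zero_smul]
      · intro h
        exact hw0 (congrArg Subtype.val h)
    rw [← h1]
    exact addOrderOf_dvd_natCard _
  have h0 : (0 : W) ∈ MulAction.fixedPoints R W := by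
    intro g
    apply Subtype.ext
    change ap (g : ↥(E Q)) 0 = 0
    exact map_zero _
  obtain ⟨⟨b, hb⟩, hbf, hb0⟩ := hR.exists_fixed_point_of_prime_dvd_card_of_fixed_point W hdvd h0
  refine ⟨b, hb, fun h => hb0 (Subtype.ext h.symm), fun g hg => ?_⟩
  exact congrArg Subtype.val (hbf ⟨g, hg⟩)

end Cfsg.Agent.H786.IF
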