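import Cfsg.Agent.H786.IF.Amb

/-!
# S5719, orthogonal groups, `q` odd: the base of PHI (dimensions 5, 6) and PHI in ambient form (helper786)
-/

set_option autoImplicit false
set_option linter.unusedSectionVars false
set_option linter.unusedVariables false
set_option linter.unusedSimpArgs false

namespace Cfsg.Agent.H786.IF

open QuadraticMap Cfsg.Agent.LieClassical Cfsg.Agent.LieClassical.OrthCore Cfsg.Agent.LieClassical.OrthTrans
  Cfsg.Agent.AutOrth.SemiSim Cfsg.Agent.AutOrth.Gen Cfsg.Agent.H989.Gs.Gen Cfsg.Agent.H989.Fx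
open Cfsg.Agent.UGT.U2.FOne.Orth (Four tl_comb')
open Cfsg.Agent.LieClassical.SLTwoUnipotent (u l)
open Matrix (SpecialLinearGroup)

variable {F V : Type*} [Field F] [AddCommGroup V] [Module F V] {Q : QuadraticForm F V}

section four

variable {e₁ f₁ e₂ f₂ : V} (h : Four Q e₁ f₁ e₂ f₂)

include h

theorem rot : Four Q e₂ f₂ f₁ e₁ :=
  ⟨h.h2, h.h1.symm, polar_zero_of_comm h.fe, polar_zero_of_comm h.ee, polar_zero_of_comm h.ff, polar_zero_of_comm h.ef⟩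

theorem S_line {v : V} (hv : Pp Q e₁ f₁ e₂ f₂ v) (x y : F) :
    S Q (x • e₁ + y • e₂) v = th Q e₁ e₂ (x • v) (y • v) (-(x * y * Q v)) := by
  obtain ⟨p1, p2, p3, p4, p5, p6, p7, p8, p9, p10, p11, p12, p13, p14, p15, p16⟩ := h.pols
  have k1 : polar Q (x • e₁ + y • e₂) v = 0 := by
    rw [polar_add_left, polar_smul_left, polar_smul_left, hv.a, hv.c, smul_zero, smul_zero, add_zero]
  have k2 : Q (-(x * y * Q v) • e₂) = 0 := by rw [QuadraticMap.map_smul, h.h2.left, smul_zero]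
  have k3 : polar Q e₁ (-(x * y * Q v) • e₂) = 0 := by rw [polar_smul_right, p9, smul_zero]
  have k4 := (hv.smul x).a
  have k5 := (hv.smul y).c
  have n1 : polar Q v e₁ = 0 := by rw [polar_comm]; exact hv.a
  have n2 : polar Q v e₂ = 0 := by rw [polar_comm]; exact hv.c
  have n3 : polar Q v v = 2 * Q v := polar_self' v
  apply ext_ap
  intro t
  unfold th
  rw [ap_mul, ap_mul, S_ap' h.h1.left k3 k2, S_ap h.h2.left k5, S_ap h.h1.left k4,
    S_ap (Q_comb h.h1.left h.h2.left h.ee x y) k1]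
  simp only [QuadraticMap.map_smul, polar_add_left, polar_add_right, polar_sub_left, polar_sub_right, polar_smul_left, polar_smul_right,
    smul_eq_mul, p1, p3, p9, p10, hv.a, hv.c, n1, n2, n3]
  module

theorem S_line' (x y x' y' c : F) :
    S Q (x • e₁ + y • e₂) (c • (x' • e₁ + y' • e₂)) = th Q e₁ e₂ 0 0 (c * (x * y' - y * x')) := by
  unfold th
  rw [S_zero, S_zero, one_mul, one_mul]
  apply ext_ap
  intro v
  rw [ap_S_tl (Q_comb h.h1.left h.h2.left h.ee x y) (by rw [QuadraticMap.map_smul, Q_comb h.h1.left h.h2.left h.ee, smul_zero])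
    (by rw [polar_smul_right, polar_comb h.h1.left h.h2.left h.ee, smul_zero]),
    ap_S_tl h.h1.left (by rw [QuadraticMap.map_smul, h.h2.left, smul_zero]) (by rw [polar_smul_right, h.ee, smul_zero]),
    tl_comb']

theorem rhoE_u (t : F) : h.rhoE (u t) = S Q e₁ ((-t) • f₂) := by
  rw [S_eq h.h1.left (h.e1_s t)]
  exact Subtype.ext (h.rho_u' t)

theorem rhoE_l (t : F) : h.rhoE (l t) = S Q e₂ ((-t) • f₁) := by
  rw [S_eq h.h2.left (h.e2_s t)]
  exact Subtype.ext (h.rho_l' t)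

theorem rhoE_e1 (A : SpecialLinearGroup (Fin 2) F) : ap (h.rhoE A) e₁ = A.1 0 0 • e₁ + A.1 1 0 • e₂ := h.rho_e1 A

theorem rhoE_e2 (A : SpecialLinearGroup (Fin 2) F) : ap (h.rhoE A) e₂ = A.1 0 1 • e₁ + A.1 1 1 • e₂ := h.rho_e2 A

theorem rhoE_perp (A : SpecialLinearGroup (Fin 2) F) {v : V} (hv : Pp Q e₁ f₁ e₂ f₂ v) : ap (h.rhoE A) v = v :=
  h.rho_perp hv.a hv.b hv.c hv.d A

end four

theorem le_normalizer_of {G : Type*} [Group G] {S H : Subgroup G} (h : ∀ g ∈ S, ∀ x ∈ H, g * x * g⁻¹ ∈ H) :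
    S ≤ Subgroup.normalizer (H : Set G) := by
  intro g hg
  rw [Subgroup.mem_normalizer_iff]
  intro x
  constructor
  · exact h g hg x
  · intro hx
    have := h _ (S.inv_mem hg) _ hx
    rwa [inv_inv, mul_assoc, mul_assoc, inv_mul_cancel, mul_one, inv_mul_cancel_left] at this

theorem range_rhoE_le {e₁ f₁ e₂ f₂ : V} (h : Four Q e₁ f₁ e₂ f₂) {K : Subgroup ↥(E Q)}
    (h1 : ∀ a : F, S Q e₁ (a • f₂) ∈ K) (h2 : ∀ a : F, S Q e₂ (a • f₁) ∈ K) : h.rhoE.range ≤ K := by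
  have h3 : K.comap h.rhoE = ⊤ := by
    apply SLTwoUnipotent.eq_top_of_u_mem_of_l_mem
    · intro t
      rw [Subgroup.mem_comap, rhoE_u]
      exact h1 _
    · intro t
      rw [Subgroup.mem_comap, rhoE_l]
      exact h2 _
  rintro _ ⟨A, rfl⟩
  have : A ∈ K.comap h.rhoE := by rw [h3]; trivial
  exact this

/-- the long root `SL₂` gives a factor `q` -/
theorem sl_step [Finite F] [FiniteDimensional F V] (h2 : (2 : F) ≠ 0) {e₁ f₁ e₂ f₂ : V} (h : Four Q e₁ f₁ e₂ f₂)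
    (L K₀ : Subgroup ↥(E Q)) (P : ↥(E Q) → Prop) (hP2 : ∀ z ∈ L, P z → z * z = 1)
    (hPc : ∀ g ∈ L, ∀ z ∈ L, P z → P (g * z * g⁻¹)) (hPF : ∀ z ∈ h.rhoE.range, Fund Q z → P z) (hL1 : h.rhoE.range ≤ L) (hL2 : K₀ ≤ L)
    (hfix : ∀ g ∈ K₀, ap g e₁ = e₁ ∧ ap g f₁ = f₁ ∧ ap g e₂ = e₂ ∧ ap g f₂ = f₂) (c : ℕ)
    (hc : ∀ Y : Subgroup ↥(E Q), (∀ z ∈ Y, ¬ P z) → c ≤ Y.relIndex K₀) (Y : Subgroup ↥(E Q)) (hY : ∀ z ∈ Y, ¬ P z) :
    Nat.card F * c ≤ Y.relIndex L := by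
  have hfE : Finite ↥(E Q) := Cfsg.Agent.H786.IF.finite_E
  have key : ∀ {a b a' b' : V} (h' : Four Q a b a' b'), (∀ x : F, S Q a (x • a') ∈ L) →
      (∀ g ∈ K₀, ap g a = a ∧ ap g a' = a') → (∀ x : F, S Q a (x • a') ∈ Y → x = 0) →
      Nat.card F * c ≤ Y.relIndex L := by
    intro a b a' b' h' k1 k2 k3
    have hP0 : ∀ p ∈ (⊥ : Submodule F (V × V)), Pp Q a b a' b' p.1 ∧ Pp Q a b a' b' p.2 := by
      rintro p hp
      rw [Submodule.mem_bot] at hp
      rw [hp]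
      exact ⟨Pp.zero, Pp.zero⟩
    have hmem : ∀ g ∈ HG h' ⊥ hP0, ∃ x : F, g = S Q a (x • a') := by
      rintro _ ⟨p, hp, x, rfl⟩
      rw [Submodule.mem_bot] at hp
      refine ⟨x, ?_⟩
      rw [hp]
      unfold th
      rw [Prod.fst_zero, Prod.snd_zero, S_zero, S_zero, one_mul, one_mul]
    have hmem' : ∀ x : F, S Q a (x • a') ∈ HG h' ⊥ hP0 := by
      intro x
      refine ⟨0, Submodule.zero_mem _, x, ?_⟩
      unfold th
      rw [Prod.fst_zero, Prod.snd_zero, S_zero, S_zero, one_mul, one_mul]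
    have hcard : Nat.card (HG h' ⊥ hP0) = Nat.card F := by
      rw [card_HG h' ⊥ hP0, finrank_bot, zero_add, pow_one]
    have habs := abs_relP L K₀ (HG h' ⊥ hP0) Y (by
        intro g hg
        obtain ⟨x, rfl⟩ := hmem g hg
        exact k1 x) hL2 (by rw [hcard]; exact odd_q h2) (by
        intro g hg x hx
        obtain ⟨y, rfl⟩ := hmem x hx
        rw [S_conj, ap_smul, (k2 g hg).1, (k2 g hg).2]
        exact hmem' y) P hP2 hPc hY c hc
    have hle : Nat.card (Y ⊓ HG h' ⊥ hP0 : Subgroup ↥(E Q)) ≤ Nat.card F ^ 0 := by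
      refine card_inf_HG h' ⊥ hP0 (fun p hp _ => by rwa [Submodule.mem_bot] at hp) Y k3 ?_
      rw [finrank_bot]
      omega
    rw [pow_zero] at hle
    rw [hcard] at habs
    calc _ ≤ _ := habs
      _ ≤ 1 * Y.relIndex L := Nat.mul_le_mul_right _ hle
      _ = _ := one_mul _
  by_cases hu : ∃ a : F, a ≠ 0 ∧ S Q e₁ (a • f₂) ∈ Y
  · by_cases hl : ∃ b : F, b ≠ 0 ∧ S Q e₂ (b • f₁) ∈ Y
    · exfalso
      obtain ⟨a, ha, ha'⟩ := hu
      obtain ⟨b, hb, hb'⟩ := hl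
      obtain ⟨A, hA, hA1⟩ := exists_neg_one h2 (H := Y.comap h.rhoE) (a := -a) (c := -b) (neg_ne_zero.2 ha) (neg_ne_zero.2 hb)
        (by rw [Subgroup.mem_comap, rhoE_u, neg_neg]; exact ha') (by rw [Subgroup.mem_comap, rhoE_l, neg_neg]; exact hb')
      exact hY _ hA (hPF _ ⟨A, rfl⟩ (fund_of_four h hA1))
    · push Not at hl
      refine key (rot h) (fun x => ?_) (fun g hg => ⟨(hfix g hg).2.2.1, (hfix g hg).2.1⟩) (fun x hx => ?_)
      · have := hL1 ⟨l (-x), rfl⟩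
        rwa [rhoE_l, neg_neg] at this
      · by_contra hne
        exact hl x hne hx
  · push Not at hu
    refine key h.swap (fun x => ?_) (fun g hg => ⟨(hfix g hg).1, (hfix g hg).2.2.2⟩) (fun x hx => ?_)
    · have := hL1 ⟨u (-x), rfl⟩
      rwa [rhoE_u, neg_neg] at this
    · by_contra hne
      exact hu x hne hx

theorem finrank_sq [FiniteDimensional F V] (U : Submodule F V) :
    Module.finrank F (U.prod U) = 2 * Module.finrank F U := by
  let e : (U.prod U) ≃ₗ[F] U × U :=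
    { toFun := fun p => (⟨p.1.1, p.2.1⟩, ⟨p.1.2, p.2.2⟩)
      map_add' := fun p q => rfl
      map_smul' := fun c p => rfl
      invFun := fun p => ⟨(p.1.1, p.2.1), p.1.2, p.2.2⟩
      left_inv := fun p => rfl
      right_inv := fun p => rfl }
  rw [e.finrank_eq, Module.finrank_prod]
  ring

/-- **the base**: dimension at least 5, gain `dim W - 2` -/
theorem baseP [Finite F] [FiniteDimensional F V] (h2 : (2 : F) ≠ 0) (K : Subgroup ↥(E Q)) (W : Submodule F V)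
    (P : ↥(E Q) → Prop) (hPb : Bad Q P K W)
    (hW : Nd Q W) (hd : 5 ≤ Module.finrank F W) (hK1 : ∀ g ∈ K, ∀ w ∈ W, ap g w ∈ W)
    (hK2 : ∀ u ∈ W, ∀ w ∈ W, Q u = 0 → polar Q u w = 0 → S Q u w ∈ K) (c : ℕ)
    (hc : ∀ Y : Subgroup ↥(E Q), (∀ z ∈ Y, ¬ P z) → c ≤ Y.relIndex (K ⊓ Fix Q W)) (X : Subgroup ↥(E Q)) (hX : ∀ z ∈ X, ¬ P z) :
    Nat.card F ^ (Module.finrank F W - 2) * c ≤ X.relIndex K := by
  have hfE : Finite ↥(E Q) := Cfsg.Agent.H786.IF.finite_E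
  have hWb : W ≠ ⊥ := by
    rintro rfl
    rw [finrank_bot] at hd
    omega
  obtain ⟨w₀, hw, hw0, hR⟩ := exists_w0 h2 (X := X ⊓ (K ⊓ FP Q W)) (fun z hz hF => hX z hz.1 (hPb.fund z hz.2.1 hz.2.2 hF))
    (K ⊓ FP Q W) hWb (fun g hg => hK1 g hg.1)
  obtain ⟨e₁, he₁, f₁, hf₁, hh1, hew⟩ := exists_pair hW (by omega) hw hw0
  have hdim1 := finrank_inf_Dp he₁ hf₁ hh1
  have hW1 := nd_inf_Dp hW he₁ hf₁ hh1
  obtain ⟨x, hx, hx0, -⟩ := OrthFinite.exists_sing_mem (Q := Q) (W ⊓ Dp Q e₁ f₁) (by omega)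
  obtain ⟨e₂, he₂, f₂, hf₂, hh2, -⟩ := exists_pair hW1 (by omega) hx hx0
  have hdim2 := finrank_inf_Dp he₂ hf₂ hh2
  have hU := nd_inf_Dp hW1 he₂ hf₂ hh2
  set U := W ⊓ Dp Q e₁ f₁ ⊓ Dp Q e₂ f₂ with hUdef
  have h4 : Four Q e₁ f₁ e₂ f₂ := ⟨hh1, hh2, he₂.2.1, hf₂.2.1, he₂.2.2, hf₂.2.2⟩
  have hUW : U ≤ W := inf_le_left.trans inf_le_left
  have hUP : ∀ v ∈ U, Pp Q e₁ f₁ e₂ f₂ v := fun v hv => ⟨hv.1.2.1, hv.1.2.2, hv.2.1, hv.2.2⟩
  have hP : ∀ p ∈ U.prod U, Pp Q e₁ f₁ e₂ f₂ p.1 ∧ Pp Q e₁ f₁ e₂ f₂ p.2 := fun p hp => ⟨hUP _ hp.1, hUP _ hp.2⟩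
  set H := HG h4 (U.prod U) hP with hHdef
  have hcard : Nat.card H = Nat.card F ^ (2 * (Module.finrank F W - 4) + 1) := by
    rw [hHdef, card_HG, finrank_sq]
    congr 2
    omega
  have hL2 : h4.rhoE.range ≤ K := range_rhoE_le h4
    (fun a => hK2 _ he₁ _ (W.smul_mem _ hf₂.1) hh1.left (by rw [polar_smul_right, h4.ef, smul_zero]))
    (fun a => hK2 _ he₂.1 _ (W.smul_mem _ hf₁) hh2.left (by rw [polar_smul_right, polar_zero_of_comm h4.fe, smul_zero]))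
  have hmemz : ∀ c : F, th Q e₁ e₂ 0 0 c ∈ H := fun c => ⟨0, Submodule.zero_mem _, c, rfl⟩
  have hnormal : h4.rhoE.range ⊔ (K ⊓ Fix Q W) ≤ Subgroup.normalizer (H : Set ↥(E Q)) := by
    refine sup_le (le_normalizer_of ?_) (le_normalizer_of ?_)
    · rintro _ ⟨A, rfl⟩ _ ⟨p, hp, c, rfl⟩
      have e0 : (h4.rhoE A) * th Q e₁ e₂ p.1 p.2 c * (h4.rhoE A)⁻¹ =
          S Q (A.1 0 0 • e₁ + A.1 1 0 • e₂) p.1 * S Q (A.1 0 1 • e₁ + A.1 1 1 • e₂) p.2 *
            S Q (A.1 0 0 • e₁ + A.1 1 0 • e₂) (c • (A.1 0 1 • e₁ + A.1 1 1 • e₂)) := by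
        have k1 := S_conj (h4.rhoE A) e₁ p.1
        have k2 := S_conj (h4.rhoE A) e₂ p.2
        have k3 := S_conj (h4.rhoE A) e₁ (c • e₂)
        rw [rhoE_e1, rhoE_perp h4 A (hUP _ hp.1)] at k1
        rw [rhoE_e2, rhoE_perp h4 A (hUP _ hp.2)] at k2
        rw [ap_smul, rhoE_e1, rhoE_e2] at k3
        rw [← k1, ← k2, ← k3]
        unfold th
        group
      have e1 := S_line h4 (hUP _ hp.1) (A.1 0 0) (A.1 1 0)
      have e2 := S_line h4 (hUP _ hp.2) (A.1 0 1) (A.1 1 1)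
      have e3 := S_line' h4 (A.1 0 0) (A.1 1 0) (A.1 0 1) (A.1 1 1) c
      rw [e0, e1, e2, e3]
      refine H.mul_mem (H.mul_mem ?_ ?_) (hmemz _)
      · exact ⟨(A.1 0 0 • p.1, A.1 1 0 • p.1), ⟨U.smul_mem _ hp.1, U.smul_mem _ hp.1⟩, _, rfl⟩
      · exact ⟨(A.1 0 1 • p.2, A.1 1 1 • p.2), ⟨U.smul_mem _ hp.2, U.smul_mem _ hp.2⟩, _, rfl⟩
    · rintro g ⟨-, hg⟩ _ ⟨p, hp, c, rfl⟩
      have e0 : g * th Q e₁ e₂ p.1 p.2 c * g⁻¹ = th Q e₁ e₂ p.1 p.2 c := by
        have k1 := S_conj g e₁ p.1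
        have k2 := S_conj g e₂ p.2
        have k3 := S_conj g e₁ (c • e₂)
        rw [hg _ he₁, hg _ (hUW hp.1)] at k1
        rw [hg _ he₂.1, hg _ (hUW hp.2)] at k2
        rw [ap_smul, hg _ he₁, hg _ he₂.1] at k3
        unfold th
        conv_rhs => rw [← k1, ← k2, ← k3]
        group
      rw [e0]
      exact ⟨p, hp, c, rfl⟩
  have hrho : h4.rhoE.range ≤ FP Q W := range_rhoE_le h4
    (fun a => S_mem_FP he₁ (W.smul_mem _ hf₂.1) hh1.left (by rw [polar_smul_right, h4.ef, smul_zero]))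
    (fun a => S_mem_FP he₂.1 (W.smul_mem _ hf₁) hh2.left (by rw [polar_smul_right, polar_zero_of_comm h4.fe, smul_zero]))
  have hLK : h4.rhoE.range ⊔ (K ⊓ Fix Q W) ≤ K := sup_le hL2 inf_le_left
  have hsl : ∀ Y : Subgroup ↥(E Q), (∀ z ∈ Y, ¬ P z) → Nat.card F * c ≤ Y.relIndex (h4.rhoE.range ⊔ (K ⊓ Fix Q W)) := by
    intro Y hY
    exact sl_step h2 h4 _ (K ⊓ Fix Q W) P (fun z hz => hPb.sq z (hLK hz)) (fun g hg z hz => hPb.conj g (hLK hg) z (hLK hz))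
      (fun z hz => hPb.fund z (hL2 hz) (hrho hz)) le_sup_left le_sup_right
      (fun g hg => ⟨hg.2 _ he₁, hg.2 _ hf₁, hg.2 _ he₂.1, hg.2 _ hf₂.1⟩) c hc Y hY
  have hHK : H ≤ K := by
    rintro _ ⟨p, hp, c, rfl⟩
    refine K.mul_mem (K.mul_mem ?_ ?_) ?_
    · exact hK2 _ he₁ _ (hUW hp.1) hh1.left (hUP _ hp.1).a
    · exact hK2 _ he₂.1 _ (hUW hp.2) hh2.left (hUP _ hp.2).c
    · exact hK2 _ he₁ _ (W.smul_mem _ he₂.1) hh1.left (by rw [polar_smul_right, h4.ee, smul_zero])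
  have habs := abs_relP K (h4.rhoE.range ⊔ (K ⊓ Fix Q W)) H X hHK hLK
    (by rw [hcard]; exact (odd_q h2).pow)
    (fun l hl x hx => (Subgroup.mem_normalizer_iff.1 (hnormal hl) x).1 hx) P hPb.sq hPb.conj hX
    (Nat.card F * c) hsl
  have hle : Nat.card (X ⊓ H : Subgroup ↥(E Q)) ≤ Nat.card F ^ (Module.finrank F W - 4) := by
    refine card_inf_HG h4 (U.prod U) hP ?_ X ?_ ?_
    · intro p hp H
      have a1 : p.2 = 0 := by
        apply hU p.2 hp.2
        intro y hy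
        have := H (y, 0) ⟨hy, U.zero_mem⟩
        rw [comF_apply] at this
        simpa using this
      have a2 : p.1 = 0 := by
        apply hU p.1 hp.1
        intro y hy
        have := H (0, y) ⟨U.zero_mem, hy⟩
        rw [comF_apply] at this
        rw [polar_comm]
        simpa using this
      exact Prod.ext a2 a1
    · intro c hc
      by_contra hne
      have hm : S Q e₁ (c • e₂) ∈ K ⊓ FP Q W :=
        ⟨hK2 _ he₁ _ (W.smul_mem _ he₂.1) hh1.left (by rw [polar_smul_right, h4.ee, smul_zero]),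
          S_mem_FP he₁ (W.smul_mem _ he₂.1) hh1.left (by rw [polar_smul_right, h4.ee, smul_zero])⟩
      refine hew (hR e₁ (c • e₂) hh1.left ?_ ?_ ⟨hc, hm⟩ hm ?_)
      · rw [QuadraticMap.map_smul, hh2.left, smul_zero]
      · rw [polar_smul_right, h4.ee, smul_zero]
      · refine S_ne_one hh1 (Submodule.smul_mem _ _ he₂.2) ?_
        exact smul_ne_zero hne hh2.left_ne
    · rw [finrank_sq]
      omega
  rw [hcard] at habs
  refine pow_cancel (m := Module.finrank F W - 4) Nat.card_pos ?_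
  calc Nat.card F ^ (Module.finrank F W - 2 + (Module.finrank F W - 4)) * c
      = Nat.card F ^ (2 * (Module.finrank F W - 4) + 1) * (Nat.card F * c) := by
        rw [← mul_assoc, ← pow_succ]
        congr 2
        omega
    _ ≤ _ := habs
    _ ≤ Nat.card F ^ (Module.finrank F W - 4) * X.relIndex K := Nat.mul_le_mul_right _ hle
    _ = _ := mul_comm _ _

/-- **the base**, `P` = fundamental involutions -/
theorem base [Finite F] [FiniteDimensional F V] (h2 : (2 : F) ≠ 0) (K : Subgroup ↥(E Q)) (W : Submodule F V)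
    (hW : Nd Q W) (hd : 5 ≤ Module.finrank F W) (hK1 : ∀ g ∈ K, ∀ w ∈ W, ap g w ∈ W)
    (hK2 : ∀ u ∈ W, ∀ w ∈ W, Q u = 0 → polar Q u w = 0 → S Q u w ∈ K) (c : ℕ)
    (hc : ∀ Y : Subgroup ↥(E Q), NF Q Y → c ≤ Y.relIndex (K ⊓ Fix Q W)) (X : Subgroup ↥(E Q)) (hX : NF Q X) :
    Nat.card F ^ (Module.finrank F W - 2) * c ≤ X.relIndex K :=
  baseP h2 K W (Fund Q) (bad_fund K W) hW hd hK1 hK2 c hc X hX

/-- the exponent -/
def psi : ℕ → ℕ
  | 0 => 0
  | 1 => 0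
  | 2 => 0
  | 3 => 0
  | 4 => 0
  | 5 => 3
  | 6 => 4
  | (n + 7) => n + 3 + psi (n + 5)

theorem Fix_span_pair {W : Submodule F V} {e f : V} (he : e ∈ W) (hf : f ∈ W) (h : Hyp Q e f) :
    Fix Q (Submodule.span F {e, f}) ⊓ Fix Q (W ⊓ Dp Q e f) ≤ Fix Q W := by
  rintro g ⟨h1, h2⟩ w hw
  have e0 : w = OrthTrans.proj Q e f w + polar Q f w • e + polar Q e w • f := by
    unfold OrthTrans.proj
    abel
  have h3 : ap g (OrthTrans.proj Q e f w) = OrthTrans.proj Q e f w := by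
    apply h2
    exact ⟨W.sub_mem (W.sub_mem hw (W.smul_mem _ he)) (W.smul_mem _ hf), polar_proj_left h w, polar_proj_right h w⟩
  have h4 : ap g e = e := h1 e (Submodule.subset_span (by simp))
  have h5 : ap g f = f := h1 f (Submodule.subset_span (by simp))
  rw [e0, ap_add, ap_add, ap_smul, ap_smul, h3, h4, h5]

/-- **PHI, ambient form**, for a class `P` of bad involutions -/
theorem phiP [Finite F] [FiniteDimensional F V] (h2 : (2 : F) ≠ 0) (P : ↥(E Q) → Prop) (n : ℕ) : ∀ (K : Subgroup ↥(E Q)) (W : Submodule F V),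
    Bad Q P K W →
    Nd Q W → Module.finrank F W = n → (∀ g ∈ K, ∀ w ∈ W, ap g w ∈ W) →
    (∀ u ∈ W, ∀ w ∈ W, Q u = 0 → polar Q u w = 0 → S Q u w ∈ K) → ∀ c : ℕ,
    (∀ Y : Subgroup ↥(E Q), (∀ z ∈ Y, ¬ P z) → c ≤ Y.relIndex (K ⊓ Fix Q W)) → ∀ X : Subgroup ↥(E Q), (∀ z ∈ X, ¬ P z) →
    Nat.card F ^ psi n * c ≤ X.relIndex K := by
  have hfE : Finite ↥(E Q) := Cfsg.Agent.H786.IF.finite_E
  induction n using Nat.strong_induction_on with
  | _ n ih =>
  intro K W hPb hW hn hK1 hK2 c hc X hX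
  have htriv : ∀ m : ℕ, psi m = 0 → Nat.card F ^ psi m * c ≤ X.relIndex K := by
    intro m hm
    rw [hm, pow_zero, one_mul]
    exact (hc X hX).trans (relIndex_mono X inf_le_left)
  match n, ih, hn with
  | 0, _, _ => exact htriv 0 rfl
  | 1, _, _ => exact htriv 1 rfl
  | 2, _, _ => exact htriv 2 rfl
  | 3, _, _ => exact htriv 3 rfl
  | 4, _, _ => exact htriv 4 rfl
  | 5, _, hn =>
    have := baseP h2 K W P hPb hW (by omega) hK1 hK2 c hc X hX
    rwa [hn] at this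
  | 6, _, hn =>
    have := baseP h2 K W P hPb hW (by omega) hK1 hK2 c hc X hX
    rwa [hn] at this
  | (m + 7), ih, hn =>
    obtain ⟨e, he, f, hf, h, hstep⟩ := stepP h2 K W P hPb hW (by omega) hK1 hK2 X hX
    have hdim := finrank_inf_Dp he hf h
    have h1 := hstep (Nat.card F ^ psi (m + 5) * c) (by
      intro Y hY
      refine ih (m + 5) (by omega) (K ⊓ Fix Q (Submodule.span F {e, f})) (W ⊓ Dp Q e f)
        (hPb.mono inf_le_left inf_le_left) (nd_inf_Dp hW he hf h) (by omega) ?_ ?_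
        c ?_ Y hY
      · rintro g ⟨hgK, hgF⟩ w ⟨hw, hw1, hw2⟩
        have h4 : ap g e = e := hgF e (Submodule.subset_span (by simp))
        have h5 : ap g f = f := hgF f (Submodule.subset_span (by simp))
        refine ⟨hK1 g hgK w hw, ?_, ?_⟩
        · rw [← h4, polar_ap]
          exact hw1
        · rw [← h5, polar_ap]
          exact hw2
      · rintro u ⟨hu, hu1, hu2⟩ w ⟨hw, hw1, hw2⟩ hu0 huw
        refine ⟨hK2 u hu w hw hu0 huw, ?_⟩
        intro v hv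
        have hv' : ∀ x : V, x ∈ Dp Q e f → polar Q x v = 0 := by
          intro x hx
          rw [Submodule.mem_span_pair] at hv
          obtain ⟨a, b, rfl⟩ := hv
          rw [polar_add_right, polar_smul_right, polar_smul_right, polar_comm Q x e, polar_comm Q x f, hx.1, hx.2,
            smul_zero, smul_zero, add_zero]
        exact S_fix hu0 huw (hv' u ⟨hu1, hu2⟩) (hv' w ⟨hw1, hw2⟩)
      · intro Y' hY'
        refine (hc Y' hY').trans (relIndex_mono Y' ?_)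
        intro g hg
        refine ⟨⟨hg.1, fun v hv => ?_⟩, fun v hv => hg.2 v hv.1⟩
        refine hg.2 v ?_
        exact (Submodule.span_le.2 (by
          rintro x (rfl | rfl)
          · exact he
          · exact hf)) hv)
    have e1 : Module.finrank F W - 4 = m + 3 := by omega
    rw [e1] at h1
    have e2 : psi (m + 7) = m + 3 + psi (m + 5) := rfl
    rw [e2, pow_add, mul_assoc]
    exact h1

/-- **PHI, ambient form** -/
theorem phi [Finite F] [FiniteDimensional F V] (h2 : (2 : F) ≠ 0) (n : ℕ) (K : Subgroup ↥(E Q)) (W : Submodule F V)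
    (hW : Nd Q W) (hn : Module.finrank F W = n) (hK1 : ∀ g ∈ K, ∀ w ∈ W, ap g w ∈ W)
    (hK2 : ∀ u ∈ W, ∀ w ∈ W, Q u = 0 → polar Q u w = 0 → S Q u w ∈ K) (c : ℕ)
    (hc : ∀ Y : Subgroup ↥(E Q), NF Q Y → c ≤ Y.relIndex (K ⊓ Fix Q W)) (X : Subgroup ↥(E Q)) (hX : NF Q X) :
    Nat.card F ^ psi n * c ≤ X.relIndex K :=
  phiP h2 (Fund Q) n K W (bad_fund K W) hW hn hK1 hK2 c hc X hX

end Cfsg.Agent.H786.IF
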