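import Cfsg.Agent.H786.IF.PhiA

/-!
# S5719, orthogonal groups, `q` odd: centralisers of isometries `t` with `t² = -1` (helper786)

`phi_t` : a subgroup `X` of `E Q` without fundamental involutions has relative index at least `q ^ psit M` in the
centraliser of `t` (`dim V = 2 M`).
-/

set_option autoImplicit false
set_option linter.unusedSectionVars false
set_option linter.unusedVariables false
set_option linter.unusedSimpArgs false

namespace Cfsg.Agent.H786.IF

open QuadraticMap Cfsg.Agent.LieClassical Cfsg.Agent.LieClassical.OrthCore Cfsg.Agent.LieClassical.OrthTrans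
  Cfsg.Agent.AutOrth.SemiSim Cfsg.Agent.AutOrth.Gen Cfsg.Agent.H989.Gs.Gen Cfsg.Agent.H989.Fx
open Cfsg.Agent.UGT.U2.FOne.Orth (Four)

variable {F V : Type*} [Field F] [AddCommGroup V] [Module F V] {Q : QuadraticForm F V}

/-- orthogonal projection to a nondegenerate subspace -/
theorem exists_proj [FiniteDimensional F V] {W : Submodule F V} (hW : Nd Q W) (v : V) :
    ∃ w ∈ W, ∀ y ∈ W, polar Q y (v - w) = 0 := by
  let L : W →ₗ[F] Module.Dual F W := ((polarBilin Q).comp W.subtype).compl₂ W.subtype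
  have hL : ∀ x y : W, L x y = polar Q (x : V) (y : V) := fun x y => rfl
  have hinj : Function.Injective L := by
    rw [← LinearMap.ker_eq_bot, LinearMap.ker_eq_bot']
    intro x hx
    apply Subtype.ext
    apply hW x x.2
    intro y hy
    have := congrArg (fun φ : Module.Dual F W => φ ⟨y, hy⟩) hx
    exact this
  have hsurj : Function.Surjective L :=
    (LinearMap.injective_iff_surjective_of_finrank_eq_finrank (Subspace.dual_finrank_eq (K := F) (V := W)).symm).1 hinj
  obtain ⟨w, hw⟩ := hsurj ((polarBilin Q v).comp W.subtype)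
  refine ⟨w, w.2, fun y hy => ?_⟩
  have h1 := congrArg (fun φ : Module.Dual F W => φ ⟨y, hy⟩) hw
  have h2 : polar Q (w : V) y = polar Q v y := h1
  rw [polar_sub_right, polar_comm Q y v, polar_comm Q y, h2, sub_self]

/-- an isometry fixing `Wᗮ` pointwise leaves `W` invariant -/
theorem FP_inv [FiniteDimensional F V] (hQ : Nondeg Q) {W : Submodule F V} (hW : Nd Q W) {g : ↥(E Q)}
    (hg : g ∈ FP Q W) {w : V} (hw : w ∈ W) : ap g w ∈ W := by
  obtain ⟨a, ha, hab⟩ := exists_proj hW (ap g w)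
  have h0 : ap g w - a = 0 := by
    apply hQ
    intro x
    obtain ⟨x₁, hx₁, hx₂⟩ := exists_proj hW x
    have e1 : x = x₁ + (x - x₁) := by abel
    rw [e1, polar_add_right, polar_comm Q _ x₁, hab x₁ hx₁, zero_add, polar_sub_left, hx₂ a ha, sub_zero]
    have h3 : ap g (x - x₁) = x - x₁ := hg _ hx₂
    rw [← h3, polar_ap]
    exact hx₂ w hw
  rw [sub_eq_zero.1 h0]
  exact ha

section tt

variable {t : V →ₗ[F] V} (hts : ∀ v, t (t v) = -v) (hQt : ∀ v, Q (t v) = Q v)

include hQt in
theorem polar_t (x y : V) : polar Q (t x) (t y) = polar Q x y := by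
  simp only [QuadraticMap.polar, ← map_add, hQt]

include hts hQt in
theorem skew (x y : V) : polar Q (t x) y = -polar Q x (t y) := by
  rw [← polar_t hQt (t x) y, hts, polar_neg_left]

include hts hQt in
theorem polar_self_t (h2 : (2 : F) ≠ 0) (x : V) : polar Q x (t x) = 0 := by
  have h1 := skew hts hQt x x
  rw [polar_comm] at h1
  have h3 : (2 : F) * polar Q x (t x) = 0 := by linear_combination h1
  exact (mul_eq_zero.1 h3).resolve_left h2

include hts hQt in
/-- a singular vector of `W`, not an eigenvector of `t`, not orthogonal to `w₀` -/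
theorem exists_e [Finite F] [FiniteDimensional F V] (h2 : (2 : F) ≠ 0) {W : Submodule F V} (hW : Nd Q W)
    (h4 : 4 ≤ Module.finrank F W) (htW : ∀ w ∈ W, t w ∈ W) {w₀ : V} (hw : w₀ ∈ W) (hw0 : w₀ ≠ 0) :
    ∃ e ∈ W, Q e = 0 ∧ polar Q e w₀ ≠ 0 ∧ ∀ c : F, t e ≠ c • e := by
  obtain ⟨x, hx, f, hf, h, hxw⟩ := exists_pair hW (by omega) hw hw0
  by_cases hev : ∀ c : F, t x ≠ c • x
  · exact ⟨x, hx, h.left, hxw, hev⟩
  push Not at hev
  obtain ⟨c, hc⟩ := hev
  have hcc : c * c = -1 := by
    have h1 : t (t x) = (c * c) • x := by rw [hc, map_smul, hc, smul_smul]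
    rw [hts] at h1
    have h3 : (c * c + 1) • x = 0 := by rw [add_smul, ← h1, one_smul, neg_add_cancel]
    have h5 := (smul_eq_zero.1 h3).resolve_right h.left_ne
    linear_combination h5
  have hc0 : c ≠ 0 := by
    rintro rfl
    rw [mul_zero] at hcc
    have : (1 : F) = 0 := by linear_combination hcc
    exact one_ne_zero this
  have hdim := finrank_inf_Dp hx hf h
  have hW' := nd_inf_Dp hW hx hf h
  obtain ⟨v, hv, hvc⟩ : ∃ v ∈ W ⊓ Dp Q x f, t v ≠ c • v := by
    have hne : W ⊓ Dp Q x f ≠ ⊥ := by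
      intro hb
      rw [hb, finrank_bot] at hdim
      omega
    obtain ⟨v, hv, hv0⟩ := Submodule.exists_mem_ne_zero_of_ne_bot hne
    by_contra hcon
    push Not at hcon
    apply hv0
    apply hW' v hv
    intro y hy
    have h1 := polar_t hQt v y
    rw [hcon v hv, hcon y hy, polar_smul_left, polar_smul_right, smul_eq_mul, smul_eq_mul] at h1
    have h3 : (2 : F) * polar Q v y = 0 := by linear_combination -h1 + polar Q v y * hcc
    exact (mul_eq_zero.1 h3).resolve_left h2
  set y := t v - c • v with hy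
  have hy0 : y ≠ 0 := sub_ne_zero.2 hvc
  have hyW : y ∈ W := W.sub_mem (htW v hv.1) (W.smul_mem _ hv.1)
  have hty : t y = (-c) • y := by
    rw [hy, map_sub, map_smul, hts, smul_sub, smul_smul, neg_mul, hcc]
    module
  have hxy : polar Q x y = 0 := by
    have h1 : polar Q x (t v) = 0 := by
      have h3 := skew hts hQt x v
      rw [hc, polar_smul_left, hv.2.1, smul_zero] at h3
      linear_combination h3
    rw [hy, polar_sub_right, polar_smul_right, h1, hv.2.1, smul_zero, sub_zero]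
  have hQy : Q y = 0 := by
    have h1 := hQt y
    rw [hty, QuadraticMap.map_smul, smul_eq_mul] at h1
    have h3 : (2 : F) * Q y = 0 := by linear_combination -h1 + Q y * hcc
    exact (mul_eq_zero.1 h3).resolve_left h2
  obtain ⟨z, hzW, hz0, htz, hxz, hQz, hzw⟩ : ∃ z ∈ W, z ≠ 0 ∧ t z = (-c) • z ∧ polar Q x z = 0 ∧ Q z = 0 ∧
      polar Q (x + z) w₀ ≠ 0 := by
    by_cases h1 : polar Q (x + y) w₀ = 0
    · refine ⟨-y, W.neg_mem hyW, neg_ne_zero.2 hy0, by rw [map_neg, hty, smul_neg], by rw [polar_neg_right, hxy, neg_zero],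
        by rw [QuadraticMap.map_neg, hQy], ?_⟩
      intro h3
      rw [polar_add_left] at h1 h3
      rw [polar_neg_left] at h3
      have h5 : (2 : F) * polar Q x w₀ = 0 := by linear_combination h1 + h3
      exact hxw ((mul_eq_zero.1 h5).resolve_left h2)
    · exact ⟨y, hyW, hy0, hty, hxy, hQy, h1⟩
  refine ⟨x + z, W.add_mem hx hzW, by rw [Q_add, h.left, hQz, hxz]; simp, hzw, fun d hd => ?_⟩
  rw [map_add, hc, htz] at hd
  have e1 : (c - d) • x = (c + d) • z := by
    have : (c - d) • x - (c + d) • z = (c • x + (-c) • z) - d • (x + z) := by module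
    rw [← sub_eq_zero, this, hd, sub_self]
  have e2 : (c - d) • x = -((c + d) • z) := by
    have h1 := congrArg t e1
    rw [map_smul, map_smul, hc, htz] at h1
    have h3 : c • ((c - d) • x + (c + d) • z) = 0 := by
      have : c • ((c - d) • x + (c + d) • z) = (c - d) • c • x - (c + d) • (-c) • z := by module
      rw [this, h1, sub_self]
    have h5 := (smul_eq_zero.1 h3).resolve_left hc0
    exact eq_neg_of_add_eq_zero_left h5
  have e3 : (c + d) • z = 0 := by
    have h1 : (2 : F) • ((c + d) • z) = 0 := by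
      rw [two_smul]
      nth_rewrite 1 [← e1]
      rw [e2, neg_add_cancel]
    exact (smul_eq_zero.1 h1).resolve_left h2
  have e4 : (c - d) • x = 0 := by rw [e1, e3]
  have e5 := (smul_eq_zero.1 e3).resolve_right hz0
  have e6 := (smul_eq_zero.1 e4).resolve_right h.left_ne
  have e7 : (2 : F) * c = 0 := by linear_combination e5 + e6
  exact (mul_ne_zero h2 hc0) e7

include hts hQt in
theorem exists_four_t [FiniteDimensional F V] (h2 : (2 : F) ≠ 0) {W : Submodule F V} (hW : Nd Q W)
    (htW : ∀ w ∈ W, t w ∈ W) {e : V} (he : e ∈ W) (hQe : Q e = 0) (hne : ∀ c : F, t e ≠ c • e) :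
    ∃ f ∈ W, Four Q e f (t e) (t f) := by
  have hN := nondeg_QR hW
  obtain ⟨⟨y, hyW⟩, hy1, hy2⟩ := exists_sep (Q := QR Q W) (x := ⟨e, he⟩) (z := ⟨t e, htW e he⟩) hN (by
    intro c hc
    have h1 : e = c • t e := congrArg Subtype.val hc
    apply hne (-c)
    have h3 := congrArg t h1
    rw [map_smul, hts] at h3
    rw [h3]
    module)
  have hy1' : polar Q (t e) y = 0 := hy1
  have hy2' : polar Q e y = 1 := hy2
  have hee : polar Q e (t e) = 0 := polar_self_t hts hQt h2 e
  set f := y - Q y • e with hf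
  have hfW : f ∈ W := W.sub_mem hyW (W.smul_mem _ he)
  have hQf : Q f = 0 := by
    rw [hf, sub_eq_add_neg, ← neg_smul, Q_add, QuadraticMap.map_smul, hQe, polar_smul_right, polar_comm Q y e, hy2']
    simp
  have hef : polar Q e f = 1 := by
    rw [hf, polar_sub_right, polar_smul_right, hy2', polar_self_of_sing hQe, smul_zero, sub_zero]
  have htef : polar Q (t e) f = 0 := by
    rw [hf, polar_sub_right, polar_smul_right, hy1', polar_comm Q (t e) e, hee, smul_zero, sub_zero]
  refine ⟨f, hfW, ⟨⟨hQe, hQf, hef⟩, ⟨by rw [hQt, hQe], by rw [hQt, hQf], by rw [polar_t hQt, hef]⟩, hee, ?_, ?_,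
    polar_self_t hts hQt h2 f⟩⟩
  · have h1 := skew hts hQt e f
    rw [htef] at h1
    linear_combination h1
  · rw [polar_comm]
    exact htef

/-- the elements commuting with `t` which fix the orthogonal space of `W` -/
def KT (Q : QuadraticForm F V) (t : V →ₗ[F] V) (W : Submodule F V) : Subgroup ↥(E Q) where
  carrier := {g | (∀ v, ap g (t v) = t (ap g v)) ∧ g ∈ FP Q W}
  one_mem' := ⟨fun v => rfl, (FP Q W).one_mem⟩
  mul_mem' := fun {a b} ha hb => ⟨fun v => by rw [ap_mul, ap_mul, hb.1, ha.1], (FP Q W).mul_mem ha.2 hb.2⟩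
  inv_mem' := fun {a} ha => ⟨fun v => by
    have h1 := ha.1 (ap a⁻¹ v)
    rw [ap_ap_inv] at h1
    exact ap_inv_of h1, (FP Q W).inv_mem ha.2⟩

include hQt in
theorem t_S {a b : V} (ha : Q a = 0) (hab : polar Q a b = 0) (v : V) :
    t (ap (S Q a b) v) = ap (S Q (t a) (t b)) (t v) := by
  rw [S_ap ha hab, S_ap (by rw [hQt, ha]) (by rw [polar_t hQt, hab]), polar_t hQt, polar_t hQt, hQt]
  simp only [map_sub, map_add, map_smul]

include hts hQt in
theorem th_mem_KT (h2 : (2 : F) ≠ 0) {W : Submodule F V} {e f : V} (h : Four Q e f (t e) (t f)) (he : e ∈ W) (hte : t e ∈ W)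
    {w : V} (hw : w ∈ W) (htw : t w ∈ W) (hp : Pp Q e f (t e) (t f) w) (hp' : Pp Q e f (t e) (t f) (t w)) (c : F) :
    th Q e (t e) w (t w) c ∈ KT Q t W := by
  refine ⟨fun v => ?_, ?_⟩
  · have hz : polar Q e (c • t e) = 0 := by rw [polar_smul_right, h.ee, smul_zero]
    have k1 : S Q (t (t e)) (t (t w)) = S Q e w := by
      have h3 : polar Q e (-w) = 0 := by rw [polar_neg_right, hp.a, neg_zero]
      rw [hts, hts]
      have := S_smul (Q := Q) (-1 : F) h.h1.left h3
      rw [neg_one_smul, neg_one_smul, neg_neg] at this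
      exact this
    have k2 : S Q (t e) (t (c • t e)) = S Q e (c • t e) := by
      rw [z_swap h, map_smul, hts, smul_neg, neg_smul]
    have k3 : S Q (t e) (t w) * S Q e w = S Q e w * S Q (t e) (t w) := by
      have h3 : polar Q (t w) w = 0 := by
        rw [polar_comm]
        exact polar_self_t hts hQt h2 w
      rw [comm21 h hp' hp, h3, neg_zero, zero_smul, S_zero, mul_one]
    unfold th
    rw [ap_mul, ap_mul, ap_mul, ap_mul, t_S hQt h.h1.left hp.a, t_S hQt h.h2.left hp'.c, t_S hQt h.h1.left hz, k1, k2,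
      ← ap_mul, ← ap_mul, ← ap_mul (S Q (t e) (t w)), k3]
    rfl
  · refine (FP Q W).mul_mem ((FP Q W).mul_mem ?_ ?_) ?_
    · exact S_mem_FP he hw h.h1.left hp.a
    · exact S_mem_FP hte htw h.h2.left hp'.c
    · exact S_mem_FP he (W.smul_mem _ hte) h.h1.left (by rw [polar_smul_right, h.ee, smul_zero])

include hts hQt in
/-- **one step for `t² = -1`** -/
theorem step_t [Finite F] [FiniteDimensional F V] (h2 : (2 : F) ≠ 0) (hQ : Nondeg Q) (M : ℕ) (W : Submodule F V)
    (hW : Nd Q W) (hd : Module.finrank F W = 2 * (M + 2)) (htW : ∀ w ∈ W, t w ∈ W) (X : Subgroup ↥(E Q))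
    (hX : NF Q X) : ∃ U : Submodule F V, Nd Q U ∧ Module.finrank F U = 2 * M ∧ (∀ w ∈ U, t w ∈ U) ∧ ∀ c : ℕ,
      (∀ Y : Subgroup ↥(E Q), NF Q Y → c ≤ Y.relIndex (KT Q t U)) →
      Nat.card F ^ (M + 1) * c ≤ X.relIndex (KT Q t W) := by
  have hfE : Finite ↥(E Q) := Cfsg.Agent.H786.IF.finite_E
  have hWb : W ≠ ⊥ := by
    rintro rfl
    rw [finrank_bot] at hd
    omega
  obtain ⟨w₀, hw, hw0, hR⟩ := exists_w0 h2 hX (KT Q t W) hWb (fun g hg w hw => FP_inv hQ hW hg.2 hw)
  obtain ⟨e, he, hQe, hew, hne⟩ := exists_e hts hQt h2 hW (by omega) htW hw hw0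
  obtain ⟨f, hf, h⟩ := exists_four_t hts hQt h2 hW htW he hQe hne
  have hte := htW e he
  have htf := htW f hf
  have he2 : t e ∈ W ⊓ Dp Q e f := ⟨hte, h.ee, h.fe⟩
  have hf2 : t f ∈ W ⊓ Dp Q e f := ⟨htf, h.ef, h.ff⟩
  have hdim1 := finrank_inf_Dp he hf h.h1
  have hW1 := nd_inf_Dp hW he hf h.h1
  have hdim2 := finrank_inf_Dp he2 hf2 h.h2
  have hU := nd_inf_Dp hW1 he2 hf2 h.h2
  set U := W ⊓ Dp Q e f ⊓ Dp Q (t e) (t f) with hUdef
  have hUW : U ≤ W := inf_le_left.trans inf_le_left
  have hUP : ∀ v ∈ U, Pp Q e f (t e) (t f) v := fun v hv => ⟨hv.1.2.1, hv.1.2.2, hv.2.1, hv.2.2⟩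
  have htU : ∀ v ∈ U, t v ∈ U := by
    intro v hv
    refine ⟨⟨htW v (hUW hv), ?_, ?_⟩, ?_, ?_⟩
    · have h1 := skew hts hQt e v
      rw [hv.2.1] at h1
      linear_combination h1
    · have h1 := skew hts hQt f v
      rw [hv.2.2] at h1
      linear_combination h1
    · rw [polar_t hQt]
      exact hv.1.2.1
    · rw [polar_t hQt]
      exact hv.1.2.2
  refine ⟨U, hU, by omega, htU, fun c hc => ?_⟩
  let P : Submodule F (V × V) := U.map (LinearMap.prod LinearMap.id t)
  have hPmem : ∀ p ∈ P, p.1 ∈ U ∧ p.2 = t p.1 := by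
    rintro _ ⟨v, hv, rfl⟩
    exact ⟨hv, rfl⟩
  have hPin : ∀ v ∈ U, (v, t v) ∈ P := fun v hv => ⟨v, hv, rfl⟩
  have hPdim : Module.finrank F P = 2 * M := by
    have h1 : Function.Injective (LinearMap.prod LinearMap.id t : V →ₗ[F] V × V) := by
      intro a b hab
      exact congrArg Prod.fst hab
    have h3 := (Submodule.equivMapOfInjective (LinearMap.prod LinearMap.id t : V →ₗ[F] V × V) h1 U).finrank_eq
    change Module.finrank F (U.map (LinearMap.prod LinearMap.id t : V →ₗ[F] V × V)) = 2 * M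
    rw [← h3]
    omega
  have hP : ∀ p ∈ P, Pp Q e f (t e) (t f) p.1 ∧ Pp Q e f (t e) (t f) p.2 := by
    intro p hp
    obtain ⟨h1, h3⟩ := hPmem p hp
    rw [h3]
    exact ⟨hUP _ h1, hUP _ (htU _ h1)⟩
  have hHK : HG h P hP ≤ KT Q t W := by
    rintro _ ⟨p, hp, c, rfl⟩
    obtain ⟨h1, h3⟩ := hPmem p hp
    rw [h3]
    exact th_mem_KT hts hQt h2 h he hte (hUW h1) (htW _ (hUW h1)) (hUP _ h1) (hUP _ (htU _ h1)) c
  have hcard : Nat.card (HG h P hP) = Nat.card F ^ (2 * M + 1) := by
    rw [card_HG, hPdim]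
  have hLK : KT Q t U ≤ KT Q t W := fun g hg => ⟨hg.1, FP_mono hUW hg.2⟩
  have habs := abs_rel (KT Q t W) (KT Q t U) (HG h P hP) X hHK hLK (by rw [hcard]; exact (odd_q h2).pow) (by
      rintro g hg _ ⟨p, hp, c, rfl⟩
      obtain ⟨h1, h3⟩ := hPmem p hp
      have hge : ap g e = e := hg.2 e fun w hw => by rw [polar_comm]; exact (hUP w hw).a
      have hgte : ap g (t e) = t e := hg.2 (t e) fun w hw => by rw [polar_comm]; exact (hUP w hw).c
      have hgU : ap g p.1 ∈ U := FP_inv hQ hU hg.2 h1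
      refine ⟨(ap g p.1, t (ap g p.1)), hPin _ hgU, c, ?_⟩
      have k1 := S_conj g e p.1
      have k2 := S_conj g (t e) p.2
      have k3 := S_conj g e (c • t e)
      rw [hge] at k1
      rw [hgte, h3, hg.1] at k2
      rw [ap_smul, hge, hgte] at k3
      rw [h3]
      change g * (S Q e p.1 * S Q (t e) (t p.1) * S Q e (c • t e)) * g⁻¹ =
        S Q e (ap g p.1) * S Q (t e) (t (ap g p.1)) * S Q e (c • t e)
      have e0 : g * (S Q e p.1 * S Q (t e) (t p.1) * S Q e (c • t e)) * g⁻¹ =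
          (g * S Q e p.1 * g⁻¹) * (g * S Q (t e) (t p.1) * g⁻¹) * (g * S Q e (c • t e) * g⁻¹) := by group
      rw [e0, k1, k2, k3]) {z | Fund Q z} (fun z hz => Fund.sq hz) (fun g z hz => Fund.conj hz g)
      (fun z hz => hX z hz) c (fun Y hY => hc Y fun z hz => hY z hz)
  have hle : Nat.card (X ⊓ HG h P hP : Subgroup ↥(E Q)) ≤ Nat.card F ^ M := by
    refine card_inf_HG h P hP ?_ X ?_ (by omega)
    · intro p hp H
      obtain ⟨h1, h3⟩ := hPmem p hp
      have h5 : t p.1 = 0 := by
        apply hU _ (htU _ h1)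
        intro y hy
        have h6 := H (y, t y) (hPin y hy)
        rw [comF_apply] at h6
        simp only at h6
        rw [h3] at h6
        have h7 := skew hts hQt p.1 y
        rw [polar_comm Q (t y) p.1] at h6
        have h8 : (2 : F) * polar Q (t p.1) y = 0 := by linear_combination h6 + h7
        exact (mul_eq_zero.1 h8).resolve_left h2
      have h9 : p.1 = 0 := by
        have := hts p.1
        rw [h5, map_zero] at this
        exact neg_eq_zero.1 this.symm
      refine Prod.ext h9 ?_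
      rw [h3, h5]
      rfl
    · intro c hc
      by_contra hne'
      have hm : S Q e (c • t e) ∈ KT Q t W := by
        have := th_mem_KT hts hQt h2 h he hte W.zero_mem (by rw [map_zero]; exact W.zero_mem) Pp.zero
          (by rw [map_zero]; exact Pp.zero) c
        unfold th at this
        rw [map_zero, S_zero, S_zero, one_mul, one_mul] at this
        exact this
      refine hew (hR e (c • t e) hQe ?_ ?_ hc hm ?_)
      · rw [QuadraticMap.map_smul, h.h2.left, smul_zero]
      · rw [polar_smul_right, h.ee, smul_zero]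
      · exact S_ne_one h.h1 (Submodule.smul_mem _ _ he2.2) (smul_ne_zero hne' h.h2.left_ne)
  rw [hcard] at habs
  refine pow_cancel (m := M) Nat.card_pos ?_
  calc Nat.card F ^ (M + 1 + M) * c = Nat.card F ^ (2 * M + 1) * c := by
        congr 2
        omega
    _ ≤ _ := habs
    _ ≤ Nat.card F ^ M * X.relIndex (KT Q t W) := Nat.mul_le_mul_right _ hle
    _ = _ := mul_comm _ _

end tt

/-- the exponent -/
def psit : ℕ → ℕ
  | 0 => 0
  | 1 => 0
  | (M + 2) => M + 1 + psit M

/-- **PHI for `t² = -1`** -/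
theorem phi_t [Finite F] [FiniteDimensional F V] {t : V →ₗ[F] V} (hts : ∀ v, t (t v) = -v) (hQt : ∀ v, Q (t v) = Q v)
    (h2 : (2 : F) ≠ 0) (hQ : Nondeg Q) (M : ℕ) : ∀ (W : Submodule F V), Nd Q W → Module.finrank F W = 2 * M →
    (∀ w ∈ W, t w ∈ W) → ∀ X : Subgroup ↥(E Q), NF Q X → Nat.card F ^ psit M ≤ X.relIndex (KT Q t W) := by
  have hfE : Finite ↥(E Q) := Cfsg.Agent.H786.IF.finite_E
  have htriv : ∀ (X : Subgroup ↥(E Q)) (K : Subgroup ↥(E Q)), 1 ≤ X.relIndex K := fun X K =>
    Nat.one_le_iff_ne_zero.2 Subgroup.FiniteIndex.index_ne_zero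
  induction M using Nat.strong_induction_on with
  | _ M ih =>
  intro W hW hn htW X hX
  match M, ih, hn with
  | 0, _, _ => exact htriv _ _
  | 1, _, _ => exact htriv _ _
  | (m + 2), ih, hn =>
    obtain ⟨U, hU1, hU2, hU3, hU4⟩ := step_t hts hQt h2 hQ m W hW hn htW X hX
    have h1 := hU4 (Nat.card F ^ psit m) (fun Y hY => ih m (by omega) U hU1 hU2 hU3 Y hY)
    have e2 : psit (m + 2) = m + 1 + psit m := rfl
    rw [e2, pow_add]
    exact h1

end Cfsg.Agent.H786.IF
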